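/-
`Z(J_e(S))` is normal in a `p`-stable group with `C_X(O_p(X)) ≤ O_p(X)`, `p` odd, where `J_e` is
generated by the elementary abelian subgroups of largest order; and the control of strong fusion
by `N_G(Z(J_e(P)))` in `Qd(p)`-free groups.
-/
import Cfsg.Agent.Lib.PLocal.ThompsonComplement
import Cfsg.Agent.Lib.QuadAct.ZJ
import Cfsg.Agent.Lib.ZJ.QdControl

set_option autoImplicit false
set_option linter.unusedSectionVars false
set_option linter.style.haveILetI false

namespace Cfsg.Agent.Lib.ZJStrong.ZJe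

open Subgroup Cfsg
open scoped commutatorElement
open Cfsg.Agent.Lib.PLocal.Thompson Cfsg.Agent.Lib.PLocal.ZJ Cfsg.Agent.Lib.PLocal.Stability
  Cfsg.Agent.Lib.Core.Basic Cfsg.Agent.Lib.PLocal.ThompsonFunctor
open Cfsg.Agent.Lib.PLocal.ThompsonComplement (mem_of_pow_mem_of_coprime conj_pow_eq)

universe u

variable {X : Type u} [Group X] [Finite X] {p : ℕ} [hpf : Fact p.Prime]

/-- A subgroup containing a Sylow `p`-subgroup of `K` and all `p'`-elements of `K` contains `K`. -/
theorem le_of_sylow_of_coprime (K L : Subgroup X) (T : Sylow p K)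
    (hT : ∀ t ∈ (T : Subgroup K), (t : X) ∈ L)
    (hq : ∀ x ∈ K, (orderOf x).Coprime p → x ∈ L) : K ≤ L := by
  classical
  have hpp : p.Prime := Fact.out
  have hidx : (L.subgroupOf K).index = 1 := by
    by_contra hne
    obtain ⟨q, hq1, hqd⟩ := Nat.exists_prime_and_dvd hne
    haveI : Fact q.Prime := ⟨hq1⟩
    by_cases hqp : q = p
    · subst hqp
      have hle : (T : Subgroup K) ≤ L.subgroupOf K := fun t ht => mem_subgroupOf.2 (hT t ht)
      exact T.not_dvd_index (hqd.trans (Subgroup.index_dvd_of_le hle))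
    · obtain ⟨Q⟩ : Nonempty (Sylow q K) := inferInstance
      have hle : (Q : Subgroup K) ≤ L.subgroupOf K := by
        intro t ht
        refine mem_subgroupOf.2 (hq _ t.2 ?_)
        obtain ⟨n, hn⟩ := Q.isPGroup' ⟨t, ht⟩
        have h1 : (t : X) ^ q ^ n = 1 := by
          have h2 : t ^ q ^ n = 1 := congrArg Subtype.val hn
          exact congrArg Subtype.val h2
        have h3 : orderOf (t : X) ∣ q ^ n := orderOf_dvd_of_pow_eq_one h1
        have h4 : (q ^ n).Coprime p := Nat.Coprime.pow_left _ ((Nat.coprime_primes hq1 hpp).2 hqp)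
        exact Nat.Coprime.coprime_dvd_left h3 h4
      exact Q.not_dvd_index (hqd.trans (Subgroup.index_dvd_of_le hle))
  rw [Subgroup.index_eq_one] at hidx
  intro x hx
  have h : (⟨x, hx⟩ : K) ∈ L.subgroupOf K := by
    rw [hidx]
    trivial
  exact mem_subgroupOf.1 h

/-- `Z(J_e(S))` is normal in a `p`-stable group with `C_X(O_p(X)) ≤ O_p(X)`, for `p` odd. -/
theorem normal_zje (hp : p ≠ 2) (hc : centralizer (pCore p X : Set X) ≤ pCore p X)
    (hst : ∀ (P : Subgroup X) [P.Normal], IsPGroup p P → IsPStableOn p P) (S : Sylow p X) :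
    (zjOf p (S : Subgroup X)).Normal := by
  classical
  have hpp : p.Prime := Fact.out
  set Zz : Subgroup X := zjOf p (S : Subgroup X) with hZz
  set N : Subgroup X := Zz.normalCore with hN
  have hNZ : N ≤ Zz := normalCore_le _
  have hNn : N.Normal := normalCore_normal _
  have hZS : Zz ≤ (S : Subgroup X) := zjOf_le _ _
  have hZc : ∀ a ∈ Zz, ∀ b ∈ Zz, a * b = b * a :=
    mulComm_iff.1 (zjOf_isMulCommutative p (S : Subgroup X))
  set Q : Subgroup X := pCore p X with hQ
  have hQS : Q ≤ (S : Subgroup X) := pCore_le_sylow S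
  have hQp : IsPGroup p Q := pCore_isPGroup
  have hQn : Q.Normal := inferInstance
  by_contra hnormal
  have hNlt : N < Zz := by
    refine lt_of_le_of_ne hNZ ?_
    intro heq
    apply hnormal
    rw [← heq]
    exact normalCore_normal _
  have hSZ : (S : Subgroup X) ≤ normalizer (Zz : Set X) :=
    le_normalizer.trans ((pFunctor_zjOf (e := p) (p := p) (Or.inr rfl)).normalizer_le _ S.isPGroup')
  obtain ⟨y₀, hy₀Z, hy₀N, hy₀K⟩ := exists_central_mod (p := p) (S : Subgroup X) S.isPGroup' N Zz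
    hSZ hZS hNlt
  -- a power of `y₀` whose `p`-th power is in `N`
  obtain ⟨y, hyZ, hyN, hyK, hypN⟩ : ∃ y ∈ Zz, y ∉ N ∧ y ∈ sectionKernel (S : Subgroup X) N ∧
      y ^ p ∈ N := by
    obtain ⟨k, hk⟩ := S.isPGroup' ⟨y₀, hZS hy₀Z⟩
    have hk1 : ∃ k, y₀ ^ p ^ k ∈ N := ⟨k, by
      have : y₀ ^ p ^ k = 1 := congrArg Subtype.val hk
      rw [this]
      exact one_mem _⟩
    have hf := Nat.find_spec hk1
    have hf0 : Nat.find hk1 ≠ 0 := by
      intro h0
      rw [h0, pow_zero, pow_one] at hf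
      exact hy₀N hf
    obtain ⟨l, hl⟩ := Nat.exists_eq_succ_of_ne_zero hf0
    have hnot : ¬ y₀ ^ p ^ l ∈ N := Nat.find_min hk1 (by omega)
    refine ⟨y₀ ^ p ^ l, pow_mem hy₀Z _, hnot, pow_mem hy₀K _, ?_⟩
    rw [hl, Nat.succ_eq_add_one, pow_succ, pow_mul] at hf
    exact hf
  have hyS : y ∈ (S : Subgroup X) := hZS hyZ
  have hyKQ : y ∈ sectionKernel Q N := by
    rw [mem_sectionKernel_iff] at hyK ⊢
    exact fun x hx => hyK x (hQS hx)
  -- `y ∈ Q`
  have hyQ : y ∈ Q := by
    have h0 : ⁅⁅Q, zpowers y⁆, zpowers y⁆ = ⊥ := by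
      have h1 : ⁅Q, zpowers y⁆ ≤ N := by
        rw [commutator_le]
        intro q hq t ht
        have htK : t ∈ sectionKernel Q N := (zpowers_le.2 hyKQ) ht
        rw [mem_sectionKernel_iff] at htK
        rw [← commutatorElement_inv]
        exact inv_mem (htK q hq)
      rw [eq_bot_iff, commutator_le]
      intro x hx t ht
      obtain ⟨k, rfl⟩ := mem_zpowers_iff.1 ht
      rw [mem_bot, commutatorElement_eq_one_iff_mul_comm]
      exact ((show Commute x y from hZc _ (hNZ (h1 hx)) _ hyZ).zpow_right k).eq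
    have h1 := hst Q hQp y h0
    obtain ⟨D, hD, hyD, hDp⟩ := exists_D_of_mem_pCore h1
    have hDq : IsPGroup p D := by
      rintro ⟨x, hx⟩
      obtain ⟨n, hn⟩ := hDp x hx
      have h3 : x ^ p ^ n ∈ Q := hc hn
      obtain ⟨m, hm⟩ := hQp ⟨_, h3⟩
      have h4 : (x ^ p ^ n) ^ p ^ m = 1 := congrArg Subtype.val hm
      refine ⟨n + m, Subtype.ext ?_⟩
      show x ^ p ^ (n + m) = 1
      rw [pow_add, pow_mul]
      exact h4
    exact le_pCore hD hDq hyD
  -- the subgroup `R`
  have hNQ : N ≤ Q := le_pCore hNn (S.isPGroup'.to_le (hNZ.trans hZS))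
  set R : Subgroup X := normalClosure ((N : Set X) ∪ {y}) with hR
  have hRn : R.Normal := normalClosure_normal
  have hRQ : R ≤ Q := by
    apply normalClosure_le_normal
    rintro x (hx | hx)
    · exact hNQ hx
    · rw [Set.mem_singleton_iff] at hx
      rw [hx]
      exact hyQ
  have hRS : R ≤ (S : Subgroup X) := hRQ.trans hQS
  have hyR : y ∈ R := subset_normalClosure (Or.inr rfl)
  have hNR : N ≤ R := fun x hx => subset_normalClosure (Or.inl hx)
  have hRcomm : ∀ r ∈ R, ∀ s ∈ R, ⁅r, s⁆ ∈ N := by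
    have hKn : (sectionKernel Q N).Normal := sectionKernel_normal Q N
    have h1 : R ≤ sectionKernel Q N := by
      apply normalClosure_le_normal
      rintro x (hx | hx)
      · rw [SetLike.mem_coe, mem_sectionKernel_iff]
        intro q _
        have e2 : ⁅x, q⁆ = x * (q * x⁻¹ * q⁻¹) := by
          rw [commutatorElement_def]
          group
        rw [e2]
        exact mul_mem hx (hNn.conj_mem _ (inv_mem hx) q)
      · rw [Set.mem_singleton_iff] at hx
        rw [hx]
        exact hyKQ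
    intro r hr s hs
    exact (mem_sectionKernel_iff.1 (h1 hr)) s (hRQ hs)
  have hRC : R ≤ centralizer (N : Set X) := by
    have hCn : (centralizer (N : Set X)).Normal := normal_centralizer
    apply normalClosure_le_normal
    rintro x (hx | hx)
    · rw [SetLike.mem_coe, mem_centralizer_iff]
      intro n hn
      exact hZc _ (hNZ hn) _ (hNZ hx)
    · rw [Set.mem_singleton_iff] at hx
      rw [hx, SetLike.mem_coe, mem_centralizer_iff]
      intro n hn
      exact hZc _ (hNZ hn) _ hyZ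
  have hNc : ∀ n ∈ N, ∀ r ∈ R, Commute n r := fun n hn r hr => mem_centralizer_iff.1 (hRC hr) n hn
  -- class two computations
  have hpow : ∀ r ∈ R, ∀ s ∈ R, s ^ p ∈ N → (r * s) ^ p = r ^ p * s ^ p := by
    intro r hr s hs hsp
    have h1 : ⁅s, r⁆ ∈ N := hRcomm s hs r hr
    have h2 : Commute ⁅s, r⁆ s := hNc _ h1 s hs
    refine Cfsg.Agent.Lib.PGroups.ClassTwo.mul_pow_prime_of_comm hpp hp (hNc _ h1 r hr) h2 ?_
    rw [← Cfsg.Agent.Lib.PGroups.ClassTwo.comm_pow_left_of_comm h2 p,
      commutatorElement_eq_one_iff_mul_comm]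
    exact hNc _ hsp r hr
  -- the subgroup `B`
  let B : Subgroup X :=
    { carrier := {r | r ∈ R ∧ r ^ p = 1}
      one_mem' := ⟨one_mem _, one_pow _⟩
      mul_mem' := by
        rintro r s ⟨hr, hr'⟩ ⟨hs, hs'⟩
        refine ⟨mul_mem hr hs, ?_⟩
        rw [hpow r hr s hs (by rw [hs']; exact one_mem _), hr', hs', one_mul]
      inv_mem' := by
        rintro r ⟨hr, hr'⟩
        exact ⟨inv_mem hr, by rw [inv_pow, hr', inv_one]⟩ }
  have hBn : B.Normal := by
    constructor
    rintro r ⟨hr, hr'⟩ g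
    exact ⟨hRn.conj_mem r hr g, by rw [conj_pow, hr', mul_one, mul_inv_cancel]⟩
  have hBR : B ≤ R := fun x hx => hx.1
  have hBS : B ≤ (S : Subgroup X) := hBR.trans hRS
  have hBp : IsPGroup p B := S.isPGroup'.to_le hBS
  have hBc : ⁅B, B⁆ ≤ Z₀ p (S : Subgroup X) := by
    rw [commutator_le]
    rintro r ⟨hr, hr'⟩ s ⟨hs, hs'⟩
    rw [Z₀_eq_omegaOne]
    refine subset_closure ⟨hNZ (hRcomm r hr s hs), ?_⟩
    rw [← Cfsg.Agent.Lib.PGroups.ClassTwo.comm_pow_left_of_comm (hNc _ (hRcomm r hr s hs) r hr) p,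
      hr', commutatorElement_one_left]
  have hWN : Z₀ p (S : Subgroup X) ≤ N := by
    have h1 : (Z₀ p (S : Subgroup X)).Normal :=
      Subgroup.normal_of_characteristic _ (h := zj_characteristic hp (e := p) (Or.inr rfl) hc hst S)
    refine normal_le_normalCore.2 ?_
    rw [Z₀_eq_omegaOne, omegaOne, closure_le]
    rintro x ⟨hx, -⟩
    exact hx
  have hJCN : jOf p (S : Subgroup X) ≤ centralizer (N : Set X) := by
    intro j hj
    rw [mem_centralizer_iff]
    intro n hn
    exact ((mem_zjOf_iff.1 (hNZ hn)).2 j hj).symm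
  have hCNn : (centralizer (N : Set X)).Normal := normal_centralizer
  -- the key claim
  have hall : ∀ A, IsMaxIn p (S : Subgroup X) A → B ≤ A := by
    intro A hA
    by_contra hBA
    obtain ⟨A', hA', h1, h2, h3⟩ := exists_replacement hp (Or.inr rfl) (S : Subgroup X) S.isPGroup'
      B hBS (fun s _ => by rw [normalizer_eq_top B]; exact mem_top s)
      ⟨A, hA, hBc.trans (Z₀_le hA), hBA⟩
    have hCBn : (centralizer (B : Set X)).Normal := normal_centralizer
    let K : Subgroup X := (pCore p (X ⧸ centralizer (B : Set X))).comap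
      (QuotientGroup.mk' (centralizer (B : Set X)))
    have hKn : K.Normal := Subgroup.Normal.comap inferInstance _
    have hA'K : A' ≤ K := fun a ha =>
      hst B hBp a (commutator_zpowers_eq_bot hA'.2.1.1 h3 ha)
    have hKpow : ∀ k ∈ K, ∃ m, k ^ p ^ m ∈ centralizer (B : Set X) := by
      intro k hk
      obtain ⟨n, hn⟩ := (pCore_isPGroup : IsPGroup p (pCore p (X ⧸ centralizer (B : Set X)))) ⟨_, hk⟩
      have h2 : (QuotientGroup.mk' (centralizer (B : Set X)) k) ^ p ^ n = 1 :=
        congrArg Subtype.val hn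
      rw [← map_pow, QuotientGroup.mk'_apply, QuotientGroup.eq_one_iff] at h2
      exact ⟨n, h2⟩
    let K₁ : Subgroup X := K ⊓ centralizer (N : Set X)
    haveI hK₁n : K₁.Normal := Subgroup.normal_inf_normal _ _
    have hA'K₁ : A' ≤ K₁ := fun a ha => ⟨hA'K ha, hJCN (hA'.le_jOf ha)⟩
    -- `p'`-elements of `K₁` centralize `y`
    have hd : ∀ x ∈ K₁, (orderOf x).Coprime p → x * y * x⁻¹ = y := by
      intro x hx hord
      have hxC : x ∈ centralizer (B : Set X) := by
        obtain ⟨m, hm⟩ := hKpow x hx.1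
        exact mem_of_pow_mem_of_coprime hord hm
      have hxyx : x * y * x⁻¹ ∈ R := hRn.conj_mem y hyR x
      have hpv : (x * y * x⁻¹) ^ p = y ^ p := by
        rw [conj_pow]
        have h1 := mem_centralizer_iff.1 hx.2 _ hypN
        rw [← h1]
        group
      set r : X := y⁻¹ * (x * y * x⁻¹) with hrdef
      have hrB : r ∈ B := by
        refine ⟨mul_mem (inv_mem hyR) hxyx, ?_⟩
        rw [hrdef, hpow _ (inv_mem hyR) _ hxyx (by rw [hpv]; exact hypN), hpv, inv_pow, inv_mul_cancel]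
      have h1 : x * y * x⁻¹ = y * r := by
        rw [hrdef]
        group
      have h2 : x * r * x⁻¹ = r := by
        have h3 := mem_centralizer_iff.1 hxC r hrB
        rw [← h3]
        group
      have h3 := conj_pow_eq h1 h2 p
      rw [hrB.2, mul_one] at h3
      have hmem : x ^ p ^ 1 ∈ centralizer ({y} : Set X) := by
        rw [pow_one, mem_centralizer_iff]
        intro z hz
        rw [Set.mem_singleton_iff] at hz
        rw [hz]
        rw [mul_inv_eq_iff_eq_mul] at h3
        exact h3.symm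
      have hxc := mem_of_pow_mem_of_coprime hord hmem
      have h4 := mem_centralizer_iff.1 hxc y rfl
      rw [← h4]
      group
    -- all elements of `K₁` fix `y` modulo `N`
    let L : Subgroup X := (centralizer ({(QuotientGroup.mk y : X ⧸ N)} : Set (X ⧸ N))).comap
      (QuotientGroup.mk' N)
    have hL : ∀ t, t * y * t⁻¹ * y⁻¹ ∈ N → t ∈ L := by
      intro t ht
      change (QuotientGroup.mk' N t) ∈ centralizer ({(QuotientGroup.mk y : X ⧸ N)} : Set (X ⧸ N))
      rw [mem_centralizer_iff]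
      intro z hz
      rw [Set.mem_singleton_iff] at hz
      rw [hz]
      rw [← QuotientGroup.eq_one_iff] at ht
      simp only [QuotientGroup.mk_mul, QuotientGroup.mk_inv] at ht
      have h5 := mul_inv_eq_one.1 ht
      have h6 := mul_inv_eq_iff_eq_mul.1 h5
      exact h6.symm
    have hL' : ∀ t ∈ L, t * y * t⁻¹ * y⁻¹ ∈ N := by
      intro t ht
      have h5 : (QuotientGroup.mk' N t) ∈ centralizer ({(QuotientGroup.mk y : X ⧸ N)} : Set (X ⧸ N)) := ht
      rw [mem_centralizer_iff] at h5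
      have h6 := h5 _ (Set.mem_singleton _)
      rw [← QuotientGroup.eq_one_iff]
      simp only [QuotientGroup.mk_mul, QuotientGroup.mk_inv]
      have h7 : (QuotientGroup.mk y : X ⧸ N) * (QuotientGroup.mk t : X ⧸ N) =
          (QuotientGroup.mk t : X ⧸ N) * (QuotientGroup.mk y : X ⧸ N) := h6
      rw [← h7]
      group
    have hK₁L : K₁ ≤ L := by
      refine le_of_sylow_of_coprime (p := p) K₁ L
        (Cfsg.Agent.Lib.Core.SylowFacts.sylowOfNormal S K₁) ?_ ?_
      · intro t ht
        rw [Cfsg.Agent.Lib.Core.SylowFacts.coe_sylowOfNormal] at ht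
        have ht' : (t : X) ∈ (S : Subgroup X) := mem_subgroupOf.1 ht
        apply hL
        have h5 := (mem_sectionKernel_iff.1 hyK) _ (inv_mem ht')
        have h6 := hNn.conj_mem _ h5 (t : X)
        have e : (t : X) * ⁅y, (t : X)⁻¹⁆ * (t : X)⁻¹ = (t : X) * y * (t : X)⁻¹ * y⁻¹ := by
          rw [commutatorElement_def]
          group
        rw [e] at h6
        exact h6
      · intro x hx hord
        apply hL
        rw [hd x hx hord, mul_inv_cancel]
        exact one_mem _
    -- `R` centralizes `A'`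
    have hRA : R ≤ centralizer (A' : Set X) := by
      rw [hR, normalClosure, closure_le]
      intro x hx
      obtain ⟨s, hs, hsx⟩ := Group.mem_conjugatesOfSet_iff.1 hx
      obtain ⟨g, rfl⟩ := isConj_iff.1 hsx
      rw [SetLike.mem_coe, mem_centralizer_iff]
      intro a ha
      rcases hs with hs | hs
      · exact (mem_centralizer_iff.1 (hJCN (hA'.le_jOf ha)) _ (hNn.conj_mem s hs g)).symm
      · rw [Set.mem_singleton_iff] at hs
        rw [hs]
        obtain ⟨n₁, hn₁, c₁, hc₁, rfl⟩ :=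
          Cfsg.Agent.Lib.QuadAct.ZJ.exists_mul_of_sylow S K₁ g
        -- the conjugate `A₀` of `A'`
        let A₀ : Subgroup X := A'.map (MulAut.conj n₁⁻¹).toMonoidHom
        have hA₀ : IsMaxIn p (S : Subgroup X) A₀ := by
          refine ⟨?_, hA'.2.1.map _, ?_⟩
          · rintro _ ⟨b, hb, rfl⟩
            have h5 : b ∈ (S : Subgroup X) ⊓ K₁ := ⟨hA'.1 hb, hA'K₁ hb⟩
            have h6 := (mem_normalizer_iff.1 (inv_mem hn₁) b).1 h5
            have e : (MulAut.conj n₁⁻¹).toMonoidHom b = n₁⁻¹ * b * n₁⁻¹⁻¹ := rfl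
            rw [e]
            exact h6.1
          · intro C hC hC'
            have h5 : Nat.card A₀ = Nat.card A' :=
              Nat.card_congr (Subgroup.equivMapOfInjective _ _ (MulAut.conj n₁⁻¹).injective).symm.toEquiv
            rw [h5]
            exact hA'.2.2 C hC hC'
        set b : X := n₁⁻¹ * a * n₁ with hb
        have hbA₀ : b ∈ A₀ := ⟨a, ha, by
          show n₁⁻¹ * a * n₁⁻¹⁻¹ = b
          rw [inv_inv]⟩
        have hbJ : b ∈ jOf p (S : Subgroup X) := hA₀.le_jOf hbA₀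
        have hyb : b * y = y * b := (mem_zjOf_iff.1 hyZ).2 b hbJ
        have hc₁N : c₁ * y * c₁⁻¹ * y⁻¹ ∈ N := hL' c₁ (hK₁L hc₁)
        set n₀ : X := c₁ * y * c₁⁻¹ * y⁻¹ with hn₀
        have hn₀b : b * n₀ = n₀ * b := (mem_zjOf_iff.1 (hNZ hc₁N)).2 b hbJ
        have e1 : c₁ * y * c₁⁻¹ = n₀ * y := by
          rw [hn₀]
          group
        have e2 : a = n₁ * b * n₁⁻¹ := by
          rw [hb]
          group
        have e3 : (n₁ * c₁) * y * (n₁ * c₁)⁻¹ = n₁ * (n₀ * y) * n₁⁻¹ := by
          rw [← e1]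
          group
        rw [e3, e2]
        calc n₁ * b * n₁⁻¹ * (n₁ * (n₀ * y) * n₁⁻¹) = n₁ * (b * n₀) * y * n₁⁻¹ := by group
          _ = n₁ * n₀ * (b * y) * n₁⁻¹ := by rw [hn₀b]; group
          _ = n₁ * n₀ * (y * b) * n₁⁻¹ := by rw [hyb]
          _ = n₁ * (n₀ * y) * n₁⁻¹ * (n₁ * b * n₁⁻¹) := by group
    apply h2
    intro b hb
    refine hA'.mem_of_commute (hBS hb) hb.2 ?_
    intro a ha
    exact mem_centralizer_iff.1 (hRA hb.1) a ha
  have hBW : B ≤ N := (le_sInf hall).trans hWN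
  -- all conjugates of `y` lie in `Z`
  have hconj : ∀ g : X, g * y * g⁻¹ ∈ Zz := by
    intro g
    obtain ⟨n₁, hn₁, c₁, hc₁, rfl⟩ :=
      Cfsg.Agent.Lib.QuadAct.ZJ.exists_mul_of_sylow S (centralizer (N : Set X)) g
    have hn₁Z : n₁ ∈ normalizer (Zz : Set X) := by
      have hle : (S : Subgroup X) ⊓ centralizer (N : Set X) ≤ (S : Subgroup X) := inf_le_left
      have hJle : jOf p (S : Subgroup X) ≤ (S : Subgroup X) ⊓ centralizer (N : Set X) :=
        le_inf (jOf_le _ _) hJCN
      have h5 := (pFunctor_zjOf (e := p) (p := p) (Or.inr rfl)).normalizer_le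
        ((S : Subgroup X) ⊓ centralizer (N : Set X)) (S.isPGroup'.to_le inf_le_left) hn₁
      change n₁ ∈ normalizer (zjOf p ((S : Subgroup X) ⊓ centralizer (N : Set X)) : Set X) at h5
      rwa [zjOf_eq_of_le hle hJle] at h5
    -- `c₁` moves `y` by an element of `B`
    have hxyx : c₁ * y * c₁⁻¹ ∈ R := hRn.conj_mem y hyR c₁
    have hpv : (c₁ * y * c₁⁻¹) ^ p = y ^ p := by
      rw [conj_pow]
      have h1 := mem_centralizer_iff.1 hc₁ _ hypN
      rw [← h1]
      group
    have hrB : y⁻¹ * (c₁ * y * c₁⁻¹) ∈ B := by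
      refine ⟨mul_mem (inv_mem hyR) hxyx, ?_⟩
      rw [hpow _ (inv_mem hyR) _ hxyx (by rw [hpv]; exact hypN), hpv, inv_pow, inv_mul_cancel]
    have h5 : c₁ * y * c₁⁻¹ ∈ Zz := by
      have e : c₁ * y * c₁⁻¹ = y * (y⁻¹ * (c₁ * y * c₁⁻¹)) := by group
      rw [e]
      exact mul_mem hyZ (hNZ (hBW hrB))
    have h6 := (mem_normalizer_iff.1 hn₁Z _).1 h5
    have e : (n₁ * c₁) * y * (n₁ * c₁)⁻¹ = n₁ * (c₁ * y * c₁⁻¹) * n₁⁻¹ := by group
    rw [e]
    exact h6
  apply hyN
  have hRZ : R ≤ Zz := by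
    rw [hR, normalClosure, closure_le]
    intro x hx
    obtain ⟨s, hs, hsx⟩ := Group.mem_conjugatesOfSet_iff.1 hx
    obtain ⟨g, rfl⟩ := isConj_iff.1 hsx
    rcases hs with hs | hs
    · exact hNZ (hNn.conj_mem s hs g)
    · rw [Set.mem_singleton_iff] at hs
      rw [hs]
      exact hconj g
  exact normal_le_normalCore.2 hRZ hyR

section control

open Cfsg.Agent.Lib.ZJ.Main Cfsg.Agent.Lib.ZJ.QdSection Cfsg.Agent.Lib.ZJ.QdStable

/-- The functor `Q ↦ Z(J_e(Q))`. -/
def WZJe (p : ℕ) (Q : Type u) [Group Q] : Subgroup Q := zjOf p (⊤ : Subgroup Q)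

lemma Wf_WZJe {G : Type u} [Group G] [Finite G] (P : Subgroup G) (hP : IsPGroup p P) :
    Wf (WZJe p) P = zjOf p P := by
  have htop : IsPGroup p (⊤ : Subgroup P) := IsPGroup.to_subgroup hP _
  have hker : (⊤ : Subgroup P) ⊓ P.subtype.ker = ⊥ := by
    rw [(MonoidHom.ker_eq_bot_iff _).2 P.subtype_injective, inf_bot_eq]
  have h := (pFunctor_zjOf (e := p) (p := p) (Or.inr rfl)).map_eq P.subtype (⊤ : Subgroup P) htop hker
  rw [← MonoidHom.range_eq_map, range_subtype] at h
  exact h

lemma isCharP_WZJe : IsCharPFunctor.{u} p (WZJe p) := by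
  constructor
  · intro Q _ _ hQ hnt
    exact (pFunctor_zjOf (e := p) (p := p) (Or.inr rfl)).ne_bot (⊤ : Subgroup Q)
      (IsPGroup.to_subgroup hQ _) top_ne_bot
  · intro Q R _ _ _ hQ φ
    rw [WZJe, WZJe, zjOf_map_equiv]
    congr 1
    rw [← MonoidHom.range_eq_map]
    exact MonoidHom.range_eq_top.2 φ.surjective

/-- Control of strong fusion by `Z(J_e(P))` in `Qd(p)`-free groups, `p` odd. -/
theorem csf_zje (hp : p ≠ 2) {G : Type u} [Group G] [Finite G]
    (hfree : ¬ Involves (qd p) G) : CSFg (WZJe p) p G := by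
  refine main isCharP_WZJe (fun X _ => ¬ Involves (qd p) X) ?_ ?_ ?_ G hfree
  · intro X _ H h h'
    exact h (involves_of_subgroup H h')
  · intro X _ N _ h h'
    exact h (involves_of_surjective h' _ (QuotientGroup.mk'_surjective N))
  · intro X _ _ h hc S
    rw [Wf_WZJe _ S.isPGroup']
    exact normal_zje hp hc (fun P _ hP => isPStableOn_of_not_involves hp h P hP) S

end control

end Cfsg.Agent.Lib.ZJStrong.ZJe
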