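/-
Glauberman's reduction of control of strong fusion to constrained groups, for the functor attached
to a strongly closed subgroup.  A strongly closed subgroup `D` gives a conjugation invariant set of
`p`-elements meeting each `p`-subgroup in a subgroup; this structure passes to subgroups and to
all quotients.
-/
import Cfsg.Agent.Lib.ZJ.Main
import Cfsg.Agent.Lib.ZJStrong.Main
import Cfsg.Agent.Lib.PLocal.ThompsonStrong

set_option autoImplicit false
set_option linter.unusedSectionVars false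
set_option linter.unusedVariables false
set_option linter.style.haveILetI false

namespace Cfsg.Agent.Lib.ZJStrong.Section

open Cfsg Cfsg.Agent.Lib.ZJ.Reduction Cfsg.Agent.Lib.ZJ.Core Cfsg.Agent.Lib.Core.Basic
open Cfsg.Agent.Lib.Transfer.Basic
open Cfsg.Agent.Lib.PLocal.ZJ Cfsg.Agent.Lib.PLocal.ThompsonFunctor
  Cfsg.Agent.Lib.PLocal.ThompsonStrong

universe u

section adm

variable {G H : Type u} [Group G] [Group H] {p : ℕ} {𝒟 : Set G}

/-- A conjugation invariant set of `p`-elements, meeting each `p`-subgroup in a subgroup. -/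
structure Adm (p : ℕ) (𝒟 : Set G) : Prop where
  conj : ∀ x ∈ 𝒟, ∀ g : G, g * x * g⁻¹ ∈ 𝒟
  one : (1 : G) ∈ 𝒟
  pelt : ∀ x ∈ 𝒟, ∃ k : ℕ, x ^ p ^ k = 1
  mul : ∀ T : Subgroup G, IsPGroup p T → ∀ x ∈ T, ∀ y ∈ T, x ∈ 𝒟 → y ∈ 𝒟 → x * y ∈ 𝒟

/-- The part of `T` lying in `𝒟`. -/
def dPart (𝒟 : Set G) (T : Subgroup G) : Subgroup G := Subgroup.closure ((T : Set G) ∩ 𝒟)

lemma dPart_le (𝒟 : Set G) (T : Subgroup G) : dPart 𝒟 T ≤ T :=
  (Subgroup.closure_le _).2 Set.inter_subset_left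

lemma mem_dPart [Finite G] (h : Adm p 𝒟) {T : Subgroup G} (hT : IsPGroup p T) {x : G} :
    x ∈ dPart 𝒟 T ↔ x ∈ T ∧ x ∈ 𝒟 := by
  constructor
  · intro hx
    have hpow : ∀ y ∈ T, y ∈ 𝒟 → ∀ n : ℕ, y ^ n ∈ 𝒟 := by
      intro y hy hyD n
      induction n with
      | zero => simpa using h.one
      | succ n ih =>
        rw [pow_succ]
        exact h.mul T hT _ (pow_mem hy n) _ hy ih hyD
    induction hx using Subgroup.closure_induction with
    | mem y hy => exact hy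
    | one => exact ⟨one_mem _, h.one⟩
    | mul y z _ _ ihy ihz => exact ⟨mul_mem ihy.1 ihz.1, h.mul T hT y ihy.1 z ihz.1 ihy.2 ihz.2⟩
    | inv y _ ihy =>
      refine ⟨inv_mem ihy.1, ?_⟩
      have e : y ^ (orderOf y - 1) = y⁻¹ := eq_inv_of_mul_eq_one_left (by
        rw [← pow_succ, Nat.sub_add_cancel (orderOf_pos y), pow_orderOf_eq_one])
      rw [← e]
      exact hpow y ihy.1 ihy.2 _
  · intro hx
    exact Subgroup.subset_closure hx

lemma map_dPart (f : G →* H) {𝒟' : Set H} {T : Subgroup G}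
    (h : f '' ((T : Set G) ∩ 𝒟) = ((T.map f : Subgroup H) : Set H) ∩ 𝒟') :
    (dPart 𝒟 T).map f = dPart 𝒟' (T.map f) := by
  rw [dPart, dPart, MonoidHom.map_closure, h]

lemma Adm.res (h : Adm p 𝒟) (X : Subgroup G) : Adm p (X.subtype ⁻¹' 𝒟) where
  conj := by
    intro x hx g
    exact h.conj _ hx _
  one := h.one
  pelt := by
    intro x hx
    obtain ⟨k, hk⟩ := h.pelt _ hx
    exact ⟨k, Subtype.ext hk⟩
  mul := by
    intro T hT x hx y hy hxD hyD
    exact h.mul (T.map X.subtype) (hT.map _) _ ⟨x, hx, rfl⟩ _ ⟨y, hy, rfl⟩ hxD hyD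

lemma dPart_res (X : Subgroup G) (T : Subgroup X) :
    (dPart (X.subtype ⁻¹' 𝒟) T).map X.subtype = dPart 𝒟 (T.map X.subtype) := by
  apply map_dPart
  ext x
  constructor
  · rintro ⟨y, ⟨hy1, hy2⟩, rfl⟩
    exact ⟨⟨y, hy1, rfl⟩, hy2⟩
  · rintro ⟨⟨y, hy, rfl⟩, hx⟩
    exact ⟨y, ⟨hy, hx⟩, rfl⟩

variable [Fact p.Prime] [Finite G]

/-- A representative in a Sylow subgroup of the preimage. -/
lemma exists_rep (h : Adm p 𝒟) (f : G →* H) {Tb : Subgroup H} (hTb : IsPGroup p Tb)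
    {T : Subgroup G} (hT : SylowIn p T (Tb.comap f)) {x : G} (hx : x ∈ 𝒟) (hfx : f x ∈ Tb) :
    ∃ e ∈ T, e ∈ 𝒟 ∧ f e = f x := by
  have hxp : IsPGroup p (Subgroup.zpowers x) := by
    obtain ⟨k, hk⟩ := h.pelt x hx
    rintro ⟨y, z, rfl⟩
    refine ⟨k, Subtype.ext ?_⟩
    show (x ^ z) ^ p ^ k = 1
    rw [← zpow_natCast, ← zpow_mul, mul_comm, zpow_mul, zpow_natCast, hk, one_zpow]
  obtain ⟨z, hz, hzR⟩ := hT.conj (R := Subgroup.zpowers x)
    (Subgroup.zpowers_le.2 hfx) hxp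
  have h1 : z * x * z⁻¹ ∈ T := hzR (conj_mem_cj (Subgroup.mem_zpowers x))
  have hmap := hT.map f
  have hcov : ((Tb.comap f).map f) ≤ T.map f :=
    hmap.max _ le_rfl (hTb.to_le (Subgroup.map_comap_le _ _)) (Subgroup.map_mono hT.le)
  obtain ⟨s, hs, hse⟩ := hcov ⟨z, hz, rfl⟩
  refine ⟨s⁻¹ * (z * x * z⁻¹) * s, mul_mem (mul_mem (inv_mem hs) h1) hs, ?_, ?_⟩
  · have := h.conj _ (h.conj x hx z) s⁻¹
    simpa using this
  · simp only [map_mul, map_inv]
    rw [hse]
    group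

lemma Adm.image (h : Adm p 𝒟) (f : G →* H) (hf : Function.Surjective f) : Adm p (f '' 𝒟) where
  conj := by
    rintro _ ⟨x, hx, rfl⟩ g
    obtain ⟨g, rfl⟩ := hf g
    exact ⟨g * x * g⁻¹, h.conj x hx g, by simp⟩
  one := ⟨1, h.one, map_one f⟩
  pelt := by
    rintro _ ⟨x, hx, rfl⟩
    obtain ⟨k, hk⟩ := h.pelt x hx
    exact ⟨k, by rw [← map_pow, hk, map_one]⟩
  mul := by
    rintro Tb hTb _ hx _ hy ⟨x, hxD, rfl⟩ ⟨y, hyD, rfl⟩
    obtain ⟨T, hT, -⟩ := exists_sylowIn_ge (p := p) (R := ⊥) (H := Tb.comap f) bot_le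
      (IsPGroup.of_bot)
    obtain ⟨e₁, he₁, he₁D, he₁f⟩ := exists_rep h f hTb hT hxD hx
    obtain ⟨e₂, he₂, he₂D, he₂f⟩ := exists_rep h f hTb hT hyD hy
    exact ⟨e₁ * e₂, h.mul T hT.isP _ he₁ _ he₂ he₁D he₂D, by rw [map_mul, he₁f, he₂f]⟩

omit [Finite G] in
lemma sylowIn_comap_map [Finite G] (f : G →* H) {T : Subgroup G} (hT : IsPGroup p T)
    (hker : (Nat.card f.ker).Coprime p) : SylowIn p T ((T.map f).comap f) := by
  refine ⟨Subgroup.le_comap_map f T, hT, ?_⟩
  intro R hR hRp hTR r hr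
  obtain ⟨t, ht, hte⟩ := hR hr
  have h1 : t⁻¹ * r ∈ R ⊓ f.ker := by
    refine Subgroup.mem_inf.2 ⟨mul_mem (inv_mem (hTR ht)) hr, ?_⟩
    rw [MonoidHom.mem_ker, map_mul, map_inv, hte, inv_mul_cancel]
  rw [inf_eq_bot_of_isPGroup_of_coprime hRp hker, Subgroup.mem_bot] at h1
  have h2 : r = t := by
    rw [← mul_right_inj t⁻¹, h1, inv_mul_cancel]
  rw [h2]
  exact ht

lemma dPart_image (h : Adm p 𝒟) (f : G →* H) {T : Subgroup G} (hT : IsPGroup p T)
    (hker : (Nat.card f.ker).Coprime p) :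
    (dPart 𝒟 T).map f = dPart (f '' 𝒟) (T.map f) := by
  apply map_dPart
  ext y
  constructor
  · rintro ⟨x, ⟨hx1, hx2⟩, rfl⟩
    exact ⟨⟨x, hx1, rfl⟩, ⟨x, hx2, rfl⟩⟩
  · rintro ⟨hy, ⟨x, hx, rfl⟩⟩
    obtain ⟨e, he, heD, hef⟩ := exists_rep h f (hT.map f) (sylowIn_comap_map f hT hker) hx hy
    exact ⟨e, ⟨he, heD⟩, hef⟩

lemma dPart_conj (h : Adm p 𝒟) (g : G) (T : Subgroup G) :
    (dPart 𝒟 T).map (MulAut.conj g).toMonoidHom = dPart 𝒟 (T.map (MulAut.conj g).toMonoidHom) := by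
  apply map_dPart
  ext y
  constructor
  · rintro ⟨x, ⟨hx1, hx2⟩, rfl⟩
    exact ⟨⟨x, hx1, rfl⟩, h.conj x hx2 g⟩
  · rintro ⟨⟨x, hx, rfl⟩, hx2⟩
    refine ⟨x, ⟨hx, ?_⟩, rfl⟩
    have := h.conj _ hx2 g⁻¹
    simpa [mul_assoc] using this

end adm

section WW

variable {G H : Type u} [Group G] [Group H] {p : ℕ} {𝒟 : Set G} {e : ℕ}

open Classical in
/-- The functor attached to `𝒟`. -/
noncomputable def WW (e : ℕ) (𝒟 : Set G) (T : Subgroup G) : Subgroup G :=
  if dPart 𝒟 T = ⊥ then Z₀ e T else Z₀ e (dPart 𝒟 T)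

lemma WW_le [Finite G] (e : ℕ) (𝒟 : Set G) (T : Subgroup G) : WW e 𝒟 T ≤ T := by
  unfold WW
  split_ifs
  · exact Z₀_le_self _
  · exact (Z₀_le_self _).trans (dPart_le _ _)

lemma WW_map [Finite G] [Finite H] (f : G →* H) {𝒟' : Set H} {T : Subgroup G}
    (hker : T ⊓ f.ker = ⊥) (hc : (dPart 𝒟 T).map f = dPart 𝒟' (T.map f)) :
    (WW e 𝒟 T).map f = WW e 𝒟' (T.map f) := by
  unfold WW
  by_cases hb : dPart 𝒟 T = ⊥
  · have hb' : dPart 𝒟' (T.map f) = ⊥ := by
      rw [← hc, hb, Subgroup.map_bot]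
    rw [if_pos hb, if_pos hb']
    exact Z₀_map_of_inf f T hker
  · have hb' : dPart 𝒟' (T.map f) ≠ ⊥ := by
      rw [← hc]
      intro h0
      apply hb
      rw [eq_bot_iff, ← hker]
      refine le_inf (dPart_le _ _) ?_
      intro x hx
      have : f x ∈ (dPart 𝒟 T).map f := ⟨x, hx, rfl⟩
      rw [h0, Subgroup.mem_bot] at this
      exact this
    rw [if_neg hb, if_neg hb', ← hc]
    refine Z₀_map_of_inf f _ ?_
    rw [eq_bot_iff, ← hker]
    exact inf_le_inf_right _ (dPart_le _ _)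

variable [Fact p.Prime] [Finite G]

lemma WW_cj (h : Adm p 𝒟) (g : G) (T : Subgroup G) : WW e 𝒟 (cj g T) = cj g (WW e 𝒟 T) := by
  symm
  apply WW_map
  · rw [(MonoidHom.ker_eq_bot_iff _).2 (MulAut.conj g).injective, inf_bot_eq]
  · exact dPart_conj h g T

lemma NN_le_NN_WW (h : Adm p 𝒟) (T : Subgroup G) : NN T ≤ NN (WW e 𝒟 T) := by
  intro x hx
  rw [mem_NN_iff_cj] at hx ⊢
  rw [← WW_cj h x T, hx]

lemma WW_ne_bot (he : e = 0 ∨ e = p) {T : Subgroup G} (hT : IsPGroup p T) (hne : T ≠ ⊥) :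
    WW e 𝒟 T ≠ ⊥ := by
  unfold WW
  split_ifs with hb
  · exact Cfsg.Agent.Lib.PLocal.ZJConstrained.Z₀_ne_bot hT hne e he
  · exact Cfsg.Agent.Lib.PLocal.ZJConstrained.Z₀_ne_bot (hT.to_le (dPart_le _ _)) hb e he

end WW

/-- Subgroup form of control of strong fusion. -/
def CSFs (e p : ℕ) {G : Type u} [Group G] (𝒟 : Set G) : Prop :=
  ∀ P : Sylow p G, ∀ A : Subgroup G, A ≤ (P : Subgroup G) → ∀ g : G, cj g A ≤ (P : Subgroup G) →
    Good (WW e 𝒟 (P : Subgroup G)) A g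

section sub

variable {G : Type u} [Group G] {p : ℕ} [Fact p.Prime] [Finite G] {𝒟 : Set G} {e : ℕ}

lemma good_of_csfs {X S : Subgroup G} (hS : SylowIn p S X)
    (hcsf : CSFs e p (X.subtype ⁻¹' 𝒟)) {A : Subgroup G} (hA : A ≤ S) {g : G} (hg : g ∈ X)
    (hgA : cj g A ≤ S) :
    ∃ n ∈ X ⊓ NN (WW e 𝒟 S), ∀ a ∈ A, n * a * n⁻¹ = g * a * g⁻¹ := by
  classical
  let T : Sylow p X := hS.toSylow
  have hT : (T : Subgroup X) = S.subgroupOf X := rfl
  have hAX : A ≤ X := hA.trans hS.le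
  have h1 : A.subgroupOf X ≤ (T : Subgroup X) := by
    rw [hT]
    intro x hx
    rw [Subgroup.mem_subgroupOf] at hx ⊢
    exact hA hx
  have h2 : cj (⟨g, hg⟩ : X) (A.subgroupOf X) ≤ (T : Subgroup X) := by
    intro x hx
    rw [hT, Subgroup.mem_subgroupOf]
    apply hgA
    rw [mem_cj] at hx ⊢
    rw [Subgroup.mem_subgroupOf] at hx
    simpa using hx
  obtain ⟨n, hn, hna⟩ := hcsf T _ h1 ⟨g, hg⟩ h2
  have hmap : (WW e (X.subtype ⁻¹' 𝒟) (T : Subgroup X)).map X.subtype = WW e 𝒟 S := by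
    rw [WW_map (𝒟' := 𝒟) X.subtype (by
      rw [(MonoidHom.ker_eq_bot_iff _).2 X.subtype_injective, inf_bot_eq]) (dPart_res X _)]
    congr 1
    rw [hT, Subgroup.subgroupOf_map_subtype, inf_eq_left.2 hS.le]
  refine ⟨n, ⟨n.2, ?_⟩, fun a ha => ?_⟩
  · rw [← hmap]
    apply mem_NN_of_cj_le
    intro b hb
    rw [mem_cj] at hb
    obtain ⟨y, hy, hye⟩ := hb
    have h3 := (mem_NN.1 hn y).1 hy
    refine ⟨_, h3, ?_⟩
    simp only [Subgroup.subtype_apply] at hye ⊢
    simp only [InvMemClass.coe_inv, MulMemClass.coe_mul]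
    rw [hye]
    group
  · have := hna ⟨a, hAX ha⟩ (by simpa [Subgroup.mem_subgroupOf] using ha)
    simpa [Subtype.ext_iff] using this

/-- Reduction modulo a normal `p'`-subgroup. -/
theorem csfs_of_quotient (hAdm : Adm p 𝒟) (M : Subgroup G) [hMn : M.Normal]
    (hM : Nat.Coprime (Nat.card M) p)
    (hq : CSFs e p ((QuotientGroup.mk' M) '' 𝒟)) : CSFs e p 𝒟 := by
  classical
  intro P A hA g hgA
  let π : G →* G ⧸ M := QuotientGroup.mk' M
  have hπ : Function.Surjective π := QuotientGroup.mk'_surjective M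
  have hker : ∀ x, π x = 1 ↔ x ∈ M := fun x => QuotientGroup.eq_one_iff x
  have hPp : IsPGroup p (P : Subgroup G) := P.isPGroup'
  have hone : ∀ x ∈ (P : Subgroup G), x ∈ M → x = 1 := by
    intro x hxP hxM
    obtain ⟨k, hk⟩ := hPp ⟨x, hxP⟩
    have hk' : x ^ p ^ k = 1 := by simpa [Subtype.ext_iff] using hk
    have h1 : orderOf x ∣ p ^ k := orderOf_dvd_of_pow_eq_one hk'
    have h2 : orderOf x ∣ Nat.card M := Subgroup.orderOf_dvd_natCard M hxM
    have h3 : Nat.Coprime (orderOf x) (p ^ k) :=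
      Nat.Coprime.coprime_dvd_left h2 (Nat.Coprime.pow_right k hM)
    exact orderOf_eq_one_iff.1 (Nat.Coprime.eq_one_of_dvd h3 h1)
  have hinj : ∀ x ∈ (P : Subgroup G), ∀ y ∈ (P : Subgroup G), π x = π y → x = y := by
    intro x hx y hy hxy
    have h1 : x⁻¹ * y ∈ M := by
      rw [← hker, map_mul, map_inv, hxy]; simp
    have h2 := hone _ (Subgroup.mul_mem _ (Subgroup.inv_mem _ hx) hy) h1
    exact (inv_mul_eq_one.1 h2)
  have hkerc : (Nat.card π.ker).Coprime p := by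
    rw [show π.ker = M from QuotientGroup.ker_mk' M]
    exact hM
  let Pb : Sylow p (G ⧸ M) := P.mapSurjective hπ
  have hPb : (Pb : Subgroup (G ⧸ M)) = (P : Subgroup G).map π := rfl
  set Z := WW e 𝒟 (P : Subgroup G) with hZ
  have hZmap : Z.map π = WW e (π '' 𝒟) (Pb : Subgroup (G ⧸ M)) := by
    rw [hPb]
    exact WW_map π (inf_eq_bot_of_isPGroup_of_coprime hPp hkerc) (dPart_image hAdm π hPp hkerc)
  have map_cj' : ∀ (x : G) (B : Subgroup G), (cj x B).map π = cj (π x) (B.map π) := by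
    intro x B
    ext y
    simp only [Subgroup.mem_map, mem_cj]
    constructor
    · rintro ⟨z, hz, rfl⟩
      exact ⟨_, hz, by simp⟩
    · rintro ⟨z, hz, hzy⟩
      refine ⟨x * z * x⁻¹, by simpa [mul_assoc] using hz, ?_⟩
      have : y = π x * π z * (π x)⁻¹ := by
        rw [hzy]; group
      rw [this]; simp
  obtain ⟨nb, hnb, hnba⟩ := hq Pb (A.map π) (by rw [hPb]; exact Subgroup.map_mono hA) (π g)
    (by rw [← map_cj', hPb]; exact Subgroup.map_mono hgA)
  obtain ⟨n, rfl⟩ := hπ nb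
  have hPM : (P : Subgroup G) ≤ NN M := by
    rw [NN_eq_top_iff.2 hMn]; exact le_top
  have hPZ : (P : Subgroup G) ≤ NN Z := (le_NN _).trans (NN_le_NN_WW hAdm _)
  have hZP : Z ≤ (P : Subgroup G) := WW_le _ _ _
  -- first correction: `m n` normalizes `Z`
  have h1 : cj n Z ≤ Z ⊔ M := by
    intro x hx
    rw [mem_cj] at hx
    have h2 : π x ∈ Z.map π := by
      rw [hZmap]
      have h3 : π (n⁻¹ * x * n) ∈ WW e (π '' 𝒟) (Pb : Subgroup (G ⧸ M)) := by
        rw [← hZmap]; exact ⟨_, hx, rfl⟩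
      have h4 := (mem_NN.1 hnb _).1 h3
      have e : π n * π (n⁻¹ * x * n) * (π n)⁻¹ = π x := by simp [mul_assoc]
      rwa [e] at h4
    obtain ⟨z, hz, hzx⟩ := h2
    have h5 : z⁻¹ * x ∈ M := by
      rw [← hker, map_mul, map_inv, hzx]; simp
    have : x = z * (z⁻¹ * x) := by group
    rw [this]
    exact Subgroup.mul_mem _ (Subgroup.mem_sup_left hz) (Subgroup.mem_sup_right h5)
  obtain ⟨m, hm, hmZ⟩ := sylow_conj_in_prod (hZP.trans hPM) (hPp.to_le hZP) hM h1
    (isPGroup_cj n (hPp.to_le hZP))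
  have hn' : m * n ∈ NN Z := by
    apply mem_NN_of_cj_le
    rwa [cj_mul]
  have hπn' : π (m * n) = π n := by
    rw [map_mul, (hker m).2 hm, one_mul]
  set n' := m * n with hn'def
  -- second correction
  set N' := NN Z with hN'
  set B := cj n' A with hB
  have hcard : Nat.Coprime (Nat.card (N' ⊓ M : Subgroup G)) p :=
    Nat.Coprime.coprime_dvd_left (Subgroup.card_dvd_of_le inf_le_right) hM
  have hPN' : (P : Subgroup G) ≤ NN (N' ⊓ M) := by
    intro y hy
    apply mem_NN_of_cj_le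
    intro b hb
    rw [mem_cj] at hb
    refine ⟨?_, ?_⟩
    · have := N'.mul_mem (N'.mul_mem (hPZ hy) hb.1) (N'.inv_mem (hPZ hy))
      simpa [mul_assoc] using this
    · have := hMn.conj_mem _ hb.2 y
      simpa [mul_assoc] using this
  have hagree : ∀ a ∈ A, π (n' * a * n'⁻¹) = π (g * a * g⁻¹) := by
    intro a ha
    have h2 := hnba (π a) ⟨a, ha, rfl⟩
    calc π (n' * a * n'⁻¹) = π n' * π a * (π n')⁻¹ := by simp
      _ = π n * π a * (π n)⁻¹ := by rw [hπn']
      _ = π g * π a * (π g)⁻¹ := h2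
      _ = π (g * a * g⁻¹) := by simp
  have hBle : B ≤ (P : Subgroup G) ⊔ (N' ⊓ M) := by
    intro x hx
    rw [hB, mem_cj] at hx
    set a := n'⁻¹ * x * n' with ha
    have hxe : x = n' * a * n'⁻¹ := by rw [ha]; group
    have hs : g * a * g⁻¹ ∈ (P : Subgroup G) := hgA (conj_mem_cj hx)
    have hxN : x ∈ N' := by
      rw [hxe]
      exact N'.mul_mem (N'.mul_mem hn' (hPZ (hA hx))) (N'.inv_mem hn')
    have hmM : (g * a * g⁻¹)⁻¹ * x ∈ N' ⊓ M := by
      refine ⟨N'.mul_mem (N'.inv_mem (hPZ hs)) hxN, (hker _).1 ?_⟩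
      have hπx : π x = π (g * a * g⁻¹) := by rw [← hagree a hx, ← hxe]
      rw [map_mul, map_inv, hπx, inv_mul_cancel]
    have : x = (g * a * g⁻¹) * ((g * a * g⁻¹)⁻¹ * x) := by group
    rw [this]
    exact Subgroup.mul_mem _ (Subgroup.mem_sup_left hs) (Subgroup.mem_sup_right hmM)
  obtain ⟨c, hc, hcB⟩ := sylow_conj_in_prod hPN' hPp hcard hBle (isPGroup_cj n' (hPp.to_le hA))
  refine ⟨c * n', N'.mul_mem hc.1 hn', fun a ha => ?_⟩
  have h3 : (c * n') * a * (c * n')⁻¹ ∈ (P : Subgroup G) := by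
    apply hcB
    have : (c * n') * a * (c * n')⁻¹ = c * (n' * a * n'⁻¹) * c⁻¹ := by group
    rw [this]
    exact conj_mem_cj (conj_mem_cj ha)
  apply hinj _ h3 _ (hgA (conj_mem_cj ha))
  rw [← hagree a ha]
  have hcM : π c = 1 := (hker c).2 hc.2
  simp [hcM]

/-- The induced functor on subgroups above `ker π`. -/
noncomputable def Wts (e : ℕ) {Gb : Type u} [Group Gb] (π : G →* Gb) (𝒟b : Set Gb)
    (T : Subgroup G) : Subgroup G := (WW e 𝒟b (T.map π)).comap π

/-- The inductive step of the reduction, when there is no normal `p'`-subgroup and `O_p(G)` does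
not contain its centralizer. -/
theorem step (he : e = 0 ∨ e = p) (hAdm : Adm p 𝒟)
    (hIH : ∀ X : Subgroup G, X ≠ ⊤ → CSFs e p (X.subtype ⁻¹' 𝒟))
    (hIHq : ∀ K : Subgroup G, K ≠ ⊤ → CSFs e p
      ((K.map (QuotientGroup.mk' (pCore p G))).subtype ⁻¹' ((QuotientGroup.mk' (pCore p G)) '' 𝒟)))
    (hM : ∀ M : Subgroup G, M.Normal → Nat.Coprime (Nat.card M) p → M = ⊥)
    (hC : ¬ Subgroup.centralizer (pCore p G : Set G) ≤ pCore p G) : CSFs e p 𝒟 := by
  classical
  intro P A hA g hg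
  set Q := pCore p G with hQ
  have hQn : Q.Normal := inferInstance
  let π : G →* G ⧸ Q := QuotientGroup.mk' Q
  have hπ : Function.Surjective π := QuotientGroup.mk'_surjective Q
  have hker : π.ker = Q := QuotientGroup.ker_mk' Q
  have hQp : IsPGroup p Q := pCore_isPGroup
  have hPs : SylowIn p (P : Subgroup G) ⊤ := SylowIn.of_sylow P le_top
  have hPp : IsPGroup p (P : Subgroup G) := hPs.isP
  have hAdmb : Adm p (π '' 𝒟) := hAdm.image π hπ
  set Z := WW e 𝒟 (P : Subgroup G) with hZ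
  have hX : ∀ X : Subgroup G, X ≠ ⊤ → (P : Subgroup G) ≤ X → ∀ A : Subgroup G,
      A ≤ (P : Subgroup G) → ∀ g ∈ X, cj g A ≤ (P : Subgroup G) →
      ∃ n ∈ X ⊓ NN Z, ∀ a ∈ A, n * a * n⁻¹ = g * a * g⁻¹ :=
    fun X hXne hPX A hA g hg hgA =>
      good_of_csfs (SylowIn.of_sylow P hPX) (hIH X hXne) hA hg hgA
  have hVn : ¬ ((P : Subgroup G) ⊓ CC π).Normal := by
    intro hn
    apply hC
    refine Cfsg.Agent.Lib.ZJ.Main.centralizer_le_of_sylow_le hPs hM Q hQp
      (fun R hR hRp => le_pCore hR hRp) ?_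
    have h1 : (P : Subgroup G) ⊓ CC π ≤ Q := le_pCore hn (hPp.to_le inf_le_left)
    rw [CC, hker] at h1
    exact h1
  by_cases hPC : (P : Subgroup G) ⊔ CC π = ⊤
  · have H : CoreHyp p (P : Subgroup G) Z π (Wts e π (π '' 𝒟)) :=
      { hP := hPs
        hQP := by rw [hker]; exact pCore_le_sylow P
        hQmax := fun R hR hRp => by rw [hker]; exact le_pCore hR hRp
        hNZ := NN_le_NN_WW hAdm _
        hPC := hPC
        Wt_le := by
          intro T hT _ x hx
          have h1 : π x ∈ T.map π := WW_le _ _ _ hx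
          obtain ⟨t, ht, hte⟩ := h1
          exact mem_of_map_eq π hT hte.symm ht
        Wt_ge := by
          intro T _ _ x hx
          have h1 : π x = 1 := hx
          change π x ∈ WW e (π '' 𝒟) (T.map π)
          rw [h1]
          exact Subgroup.one_mem _
        Wt_ne := by
          intro T hT hTp hne he'
          have h1 : T.map π ≠ ⊥ := by
            intro hb
            apply hne
            refine le_antisymm ?_ hT
            intro x hx
            have : π x ∈ T.map π := ⟨x, hx, rfl⟩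
            rw [hb] at this
            exact (Subgroup.mem_bot.1 this)
          have h2 := WW_ne_bot (𝒟 := π '' 𝒟) he (hTp.map π) h1
          apply h2
          rw [eq_bot_iff]
          intro y hy
          obtain ⟨x, rfl⟩ := hπ y
          have h3 : x ∈ π.ker := by
            rw [← he']; exact hy
          exact Subgroup.mem_bot.2 h3
        Wt_NN := by
          intro T hT hTp x hx
          have h1 : π x ∈ NN (T.map π) := by
            apply mem_NN_of_cj_le
            rw [← Cfsg.Agent.Lib.ZJ.Main.map_cj, mem_NN_iff_cj.1 hx]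
          have h2 := NN_le_NN_WW (e := e) hAdmb _ h1
          refine mem_NN.2 ?_
          intro y
          have h3 := mem_NN.1 h2 (π y)
          change π y ∈ WW e (π '' 𝒟) (T.map π) ↔ π (x * y * x⁻¹) ∈ WW e (π '' 𝒟) (T.map π)
          rw [h3]
          simp
        hX := hX
        hK := by
          intro K T hKne hQT hTK B hB y hy hyB
          have hIq := hIHq K hKne
          have hsyl : SylowIn p (T.map π) (K.map π) := hTK.map π
          obtain ⟨n, ⟨hnK, hnN⟩, hna⟩ := good_of_csfs (𝒟 := π '' 𝒟) hsyl hIq (A := B.map π)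
            (Subgroup.map_mono hB) (g := π y) ⟨y, hy, rfl⟩
            (by rw [← Cfsg.Agent.Lib.ZJ.Main.map_cj]; exact Subgroup.map_mono hyB)
          obtain ⟨n₀, hn₀, rfl⟩ := hnK
          refine ⟨n₀, ⟨hn₀, ?_⟩, fun a ha => ?_⟩
          · refine mem_NN.2 ?_
            intro z
            have h3 := mem_NN.1 hnN (π z)
            change π z ∈ WW e (π '' 𝒟) (T.map π) ↔ π (n₀ * z * n₀⁻¹) ∈ WW e (π '' 𝒟) (T.map π)
            rw [h3]
            simp
          · have := hna (π a) ⟨a, ha, rfl⟩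
            simpa using this }
    exact H.main _ A hA le_rfl g hg
  · exact core_notPC hPs hVn hPC hX A hA g hg

end sub

/-- **Glauberman's reduction, for sets `𝒟`.** -/
theorem main {p : ℕ} [Fact p.Prime] {e : ℕ} (he : e = 0 ∨ e = p)
    (𝒞 : ∀ (X : Type u) [Group X], Prop)
    (hsub : ∀ (X : Type u) [Group X] (H : Subgroup X), 𝒞 X → 𝒞 H)
    (hquot : ∀ (X : Type u) [Group X] (N : Subgroup X) [N.Normal], 𝒞 X → 𝒞 (X ⧸ N))
    (hZJ : ∀ (X : Type u) [Group X] [Finite X] (𝒟 : Set X), Adm p 𝒟 → 𝒞 X →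
      Subgroup.centralizer (pCore p X : Set X) ≤ pCore p X →
        ∀ S : Sylow p X, (WW e 𝒟 (S : Subgroup X)).Normal) :
    ∀ (G : Type u) [Group G] [Finite G] (𝒟 : Set G), Adm p 𝒟 → 𝒞 G → CSFs e p 𝒟 := by
  classical
  have key : ∀ n : ℕ, ∀ (G : Type u) [Group G] [Finite G], Nat.card G = n → ∀ 𝒟 : Set G,
      Adm p 𝒟 → 𝒞 G → CSFs e p 𝒟 := by
    intro n
    induction n using Nat.strong_induction_on with
    | _ n ih =>
    intro G _ _ hn 𝒟 hAdm hG
    have hcardpos : 0 < Nat.card G := Nat.card_pos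
    by_cases hM : ∀ M : Subgroup G, M.Normal → Nat.Coprime (Nat.card M) p → M = ⊥
    · by_cases hC : Subgroup.centralizer (pCore p G : Set G) ≤ pCore p G
      · intro P A _ g _
        have h1 := hZJ G 𝒟 hAdm hG hC P
        refine Good.of_mem ?_
        rw [NN_eq_top_iff.2 h1]
        trivial
      · have hsmall : ∀ X : Subgroup G, X ≠ ⊤ → Nat.card X < n := by
          intro X hX
          rw [← hn]
          rw [← Subgroup.card_top (G := G)]
          exact card_lt_of_lt (lt_top_iff_ne_top.2 hX)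
        refine step he hAdm ?_ ?_ hM hC
        · intro X hX
          exact ih _ (hsmall X hX) X rfl _ (hAdm.res X) (hsub G X hG)
        · intro K hK
          refine ih _ ?_ _ rfl _ ((hAdm.image _ (QuotientGroup.mk'_surjective _)).res _)
            (hsub _ _ (hquot G _ hG))
          refine lt_of_le_of_lt ?_ (hsmall K hK)
          exact Nat.card_le_card_of_surjective _ (MonoidHom.subgroupMap_surjective _ K)
    · simp only [not_forall] at hM
      obtain ⟨M, hMn, hMc, hne⟩ := hM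
      haveI := hMn
      refine csfs_of_quotient hAdm M hMc (ih _ ?_ (G ⧸ M) rfl _
        (hAdm.image _ (QuotientGroup.mk'_surjective _)) (hquot G M hG))
      rw [← hn]
      have h1 : Nat.card G = Nat.card M * Nat.card (G ⧸ M) := by
        rw [mul_comm]
        exact (Subgroup.card_eq_card_quotient_mul_card_subgroup M)
      have h2 : 1 < Nat.card M := by
        have : Nontrivial M := (Subgroup.nontrivial_iff_ne_bot M).2 hne
        exact Finite.one_lt_card
      have h3 : 0 < Nat.card (G ⧸ M) := Nat.card_pos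
      rw [h1]
      nlinarith
  intro G _ _ 𝒟 hAdm hG
  exact key _ G rfl 𝒟 hAdm hG

section strong

variable {G : Type u} [Group G] {p : ℕ}

/-- The conjugates of a subgroup, as a set. -/
def conjSetOf (D : Subgroup G) : Set G := {x | ∃ g : G, ∃ d ∈ D, x = g * d * g⁻¹}

variable [Fact p.Prime] [Finite G]

lemma adm_conjSetOf {P : Sylow p G} {D : Subgroup G} (hD : IsStronglyClosed D (P : Subgroup G)) :
    Adm p (conjSetOf D) where
  conj := by
    rintro _ ⟨h, d, hd, rfl⟩ g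
    exact ⟨g * h, d, hd, by group⟩
  one := ⟨1, 1, one_mem _, by simp⟩
  pelt := by
    rintro _ ⟨h, d, hd, rfl⟩
    obtain ⟨k, hk⟩ := P.isPGroup' ⟨d, hD.1 hd⟩
    have hk' : d ^ p ^ k = 1 := congrArg Subtype.val hk
    refine ⟨k, ?_⟩
    rw [conj_pow, hk']
    group
  mul := by
    rintro T hT _ hx _ hy ⟨a, c, hc, rfl⟩ ⟨b, d, hd, rfl⟩
    obtain ⟨S, hS⟩ := hT.exists_le_sylow
    obtain ⟨u, hu⟩ := MulAction.exists_smul_eq G S P
    have key : ∀ t ∈ T, ∀ v : G, ∀ w ∈ D, t = v * w * v⁻¹ → (u : G) * t * (u : G)⁻¹ ∈ D := by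
      intro t ht v w hw htv
      have h1 : u * t * u⁻¹ ∈ (P : Subgroup G) := by
        rw [← hu, Sylow.coe_subgroup_smul]
        exact ⟨t, hS ht, rfl⟩
      have h2 := hD.2 w hw (u * v) (by
        have e : (u * v) * w * (u * v)⁻¹ = u * t * u⁻¹ := by rw [htv]; group
        rw [e]
        exact h1)
      have e : (u * v) * w * (u * v)⁻¹ = u * t * u⁻¹ := by rw [htv]; group
      rwa [e] at h2
    have h1 := key _ hx a c hc rfl
    have h2 := key _ hy b d hd rfl
    refine ⟨u⁻¹, _, mul_mem h1 h2, ?_⟩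
    group

lemma dPart_conjSetOf {P : Sylow p G} {D : Subgroup G} (hD : IsStronglyClosed D (P : Subgroup G)) :
    dPart (conjSetOf D) (P : Subgroup G) = D := by
  ext x
  rw [mem_dPart (adm_conjSetOf hD) P.isPGroup']
  constructor
  · rintro ⟨hx, g, d, hd, rfl⟩
    exact hD.2 d hd g hx
  · intro hx
    exact ⟨hD.1 hx, 1, x, hx, by simp⟩

lemma stronglyClosed_dPart {𝒟 : Set G} (h : Adm p 𝒟) (P : Sylow p G) :
    IsStronglyClosed (dPart 𝒟 (P : Subgroup G)) (P : Subgroup G) := by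
  refine ⟨dPart_le _ _, ?_⟩
  intro x hx g hg
  rw [mem_dPart h P.isPGroup'] at hx ⊢
  exact ⟨hg, h.conj x hx.2 g⟩

end strong

/-- Glauberman's theorem on strongly closed subgroups. -/
theorem control_strong {p : ℕ} [Fact p.Prime] (hp : p ≠ 2) {e : ℕ} (he : e = 0 ∨ e = p)
    (𝒞 : ∀ (X : Type u) [Group X], Prop)
    (hsub : ∀ (X : Type u) [Group X] (H : Subgroup X), 𝒞 X → 𝒞 H)
    (hquot : ∀ (X : Type u) [Group X] (N : Subgroup X) [N.Normal], 𝒞 X → 𝒞 (X ⧸ N))
    (hst : ∀ (X : Type u) [Group X] [Finite X], 𝒞 X → IsNormalizerPStable p X)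
    {G : Type u} [Group G] [Finite G] (hG : 𝒞 G) (P : Sylow p G) (D : Subgroup G)
    (hD : IsStronglyClosed D (P : Subgroup G)) (A : Set G) (hA : A ⊆ (P : Subgroup G)) :
    ControlsStrongFusionOf (Subgroup.normalizer (Z₀ e D : Set G)) (P : Subgroup G) A := by
  classical
  refine ⟨hA, fun g hg => ?_⟩
  have hAdm : Adm p (conjSetOf D) := adm_conjSetOf hD
  have hcsf := main he 𝒞 hsub hquot (by
    intro X _ _ 𝒟 h𝒟 hX hC S
    have hst' : ∀ (R : Subgroup X) [R.Normal], R ≤ pCore p X → ∀ a ∈ (S : Subgroup X),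
        ⁅⁅R, Subgroup.zpowers a⁆, Subgroup.zpowers a⁆ = ⊥ →
          (QuotientGroup.mk a : X ⧸ Subgroup.centralizer (R : Set X)) ∈
            pCore p (X ⧸ Subgroup.centralizer (R : Set X)) := by
      intro R _ hR a _ h
      exact Cfsg.Agent.Lib.ZJStrong.Main.stable_of_normalizer (hst X hX) R
        (pCore_isPGroup.to_le hR) a h
    unfold WW
    split_ifs with hb
    · exact zj_main hp he S hC hst'
    · exact Cfsg.Agent.Lib.ZJStrong.Main.zj_main_strong hp he S _ (stronglyClosed_dPart h𝒟 S) hC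
        hst') G (conjSetOf D) hAdm hG
  have hcl : Subgroup.closure A ≤ (P : Subgroup G) := (Subgroup.closure_le _).2 hA
  have hcj : cj g (Subgroup.closure A) ≤ (P : Subgroup G) := by
    rw [cj, MonoidHom.map_closure, Subgroup.closure_le]
    rintro _ ⟨a, ha, rfl⟩
    exact hg ⟨a, ha, rfl⟩
  obtain ⟨n, hn, hna⟩ := hcsf P _ hcl g hcj
  have hWW : WW e (conjSetOf D) (P : Subgroup G) = Z₀ e D ∨ D = ⊥ := by
    unfold WW
    rw [dPart_conjSetOf hD]
    split_ifs with hb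
    · exact Or.inr hb
    · exact Or.inl rfl
  rcases hWW with hWW | hDb
  · rw [hWW] at hn
    exact ⟨n, hn, fun a ha => (hna a (Subgroup.subset_closure ha)).symm⟩
  · refine ⟨g, ?_, fun _ _ => rfl⟩
    have h0 : Z₀ e D = ⊥ := by
      rw [eq_bot_iff, ← hDb]
      exact Z₀_le_self _
    rw [h0]
    have : (⊥ : Subgroup G).Normal := inferInstance
    rw [Subgroup.normalizer_eq_top_iff.2 this]
    trivial

end Cfsg.Agent.Lib.ZJStrong.Section
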