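/-
Control of strong fusion by `Z(J(D))`, `D` strongly closed, in `p`-stable groups with `p`-constrained
`p`-locals.
-/
import Cfsg.Agent.Lib.ZJStrong.Section
import Cfsg.Agent.Lib.ConjFam.StrongCtl
import Cfsg.Agent.Lib.KInf.StrongFusion
import Cfsg.Agent.Lib.PLocal.QdSection
import Cfsg.Agent.Lib.Core.Constrained

set_option autoImplicit false
set_option linter.unusedSectionVars false
set_option linter.unusedVariables false
set_option linter.style.haveILetI false

namespace Cfsg.Agent.Lib.ZJStrong.LocalControl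

open Cfsg Cfsg.Agent.Lib.ZJ.Reduction Cfsg.Agent.Lib.ZJ.Core Cfsg.Agent.Lib.Core.Basic
open Cfsg.Agent.Lib.Transfer.Basic Cfsg.Agent.Lib.Core.CoprimeMap Cfsg.Agent.Lib.Core.Constrained
open Cfsg.Agent.Lib.PLocal.ZJ Cfsg.Agent.Lib.ZJStrong.Section
open scoped commutatorElement

universe u

variable {p : ℕ} [Fact p.Prime]

/-- Normalizer `p`-stability passes to quotients by normal `p'`-subgroups. -/
theorem isNormalizerPStable_quotient {X : Type u} [Group X] [Finite X] (K : Subgroup X) [K.Normal]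
    (hK : (Nat.card K).Coprime p) (h : IsNormalizerPStable p X) :
    IsNormalizerPStable p (X ⧸ K) := by
  classical
  rw [Cfsg.Agent.Lib.KInf.StrongFusion.stable_iff] at h ⊢
  intro Pb hPb gb hgb hq
  let f : X →* X ⧸ K := QuotientGroup.mk' K
  have hf : Function.Surjective f := QuotientGroup.mk'_surjective K
  have hker : f.ker = K := QuotientGroup.ker_mk' K
  have hkerc : (Nat.card f.ker).Coprime p := by rw [hker]; exact hK
  -- lift `Pb`
  obtain ⟨P, hP, -⟩ := exists_sylowIn_ge (p := p) (R := ⊥) (H := Pb.comap f) bot_le IsPGroup.of_bot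
  have hPmap : P.map f = Pb := by
    have hmap := hP.map f
    have hcov : ((Pb.comap f).map f) ≤ P.map f :=
      hmap.max _ le_rfl (hPb.to_le (Subgroup.map_comap_le _ _)) (Subgroup.map_mono hP.le)
    rw [Subgroup.map_comap_eq_self_of_surjective hf] at hcov
    refine le_antisymm ?_ hcov
    rintro _ ⟨x, hx, rfl⟩
    exact hP.le hx
  have hPp : IsPGroup p P := hP.isP
  have hNeq := map_normalizer_eq f hf hPp hkerc
  rw [hPmap] at hNeq
  rw [← hNeq] at hgb
  obtain ⟨g, hg, rfl⟩ := hgb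
  have hcomm : ⁅⁅P, Subgroup.zpowers g⁆, Subgroup.zpowers g⁆ = ⊥ := by
    have hle1 : ∀ Q : Subgroup X, Q ≤ P → ⁅Q, Subgroup.zpowers g⁆ ≤ P := by
      intro Q hQ
      rw [Subgroup.commutator_le]
      intro q hq z hz
      obtain ⟨k, rfl⟩ := Subgroup.mem_zpowers_iff.1 hz
      have hzN : g ^ k ∈ Subgroup.normalizer (P : Set X) := zpow_mem hg k
      have h1 := (Subgroup.mem_normalizer_iff.1 hzN q⁻¹).1 (inv_mem (hQ hq))
      have e1 : ⁅q, g ^ k⁆ = q * (g ^ k * q⁻¹ * (g ^ k)⁻¹) := by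
        rw [commutatorElement_def]
        group
      rw [e1]
      exact mul_mem (hQ hq) h1
    have hleP : ⁅⁅P, Subgroup.zpowers g⁆, Subgroup.zpowers g⁆ ≤ P := hle1 _ (hle1 _ le_rfl)
    have hmap : (⁅⁅P, Subgroup.zpowers g⁆, Subgroup.zpowers g⁆).map f = ⊥ := by
      rw [Subgroup.map_commutator, Subgroup.map_commutator, MonoidHom.map_zpowers, hPmap]
      exact hq
    rw [eq_bot_iff, ← inf_eq_bot_of_isPGroup_of_coprime hPp hkerc]
    refine le_inf hleP ?_
    intro x hx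
    have : f x ∈ (⁅⁅P, Subgroup.zpowers g⁆, Subgroup.zpowers g⁆).map f := ⟨x, hx, rfl⟩
    rw [hmap, Subgroup.mem_bot] at this
    exact this
  obtain ⟨R, hRN, hRn, hgR, hRp⟩ := h P hPp g hg hcomm
  refine ⟨R.map f, ?_, ?_, ⟨g, hgR, rfl⟩, ?_⟩
  · rw [← hNeq]
    exact Subgroup.map_mono hRN
  · intro n hn r hr
    rw [← hNeq] at hn
    obtain ⟨n, hn, rfl⟩ := hn
    obtain ⟨r, hr, rfl⟩ := hr
    exact ⟨n * r * n⁻¹, hRn n hn r hr, by simp⟩
  · rintro _ ⟨y, hy, rfl⟩
    obtain ⟨k, hk⟩ := hRp y hy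
    refine ⟨k, ?_⟩
    rw [← map_pow, ← hPmap, Subgroup.mem_centralizer_iff]
    rintro _ ⟨a, ha, rfl⟩
    rw [← map_mul, ← map_mul, Subgroup.mem_centralizer_iff.1 hk a ha]

/-- The ZJ-theorem for the functor `WW`. -/
theorem WW_normal (hp : p ≠ 2) {e : ℕ} (he : e = 0 ∨ e = p) {X : Type u} [Group X] [Finite X]
    {𝒟 : Set X} (h𝒟 : Adm p 𝒟) (hst : IsNormalizerPStable p X)
    (hC : Subgroup.centralizer (pCore p X : Set X) ≤ pCore p X) (S : Sylow p X) :
    (WW e 𝒟 (S : Subgroup X)).Normal := by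
  have hst' : ∀ (R : Subgroup X) [R.Normal], R ≤ pCore p X → ∀ a ∈ (S : Subgroup X),
      ⁅⁅R, Subgroup.zpowers a⁆, Subgroup.zpowers a⁆ = ⊥ →
        (QuotientGroup.mk a : X ⧸ Subgroup.centralizer (R : Set X)) ∈
          pCore p (X ⧸ Subgroup.centralizer (R : Set X)) := by
    intro R _ hR a _ h
    exact Cfsg.Agent.Lib.ZJStrong.Main.stable_of_normalizer hst R
      (pCore_isPGroup.to_le hR) a h
  unfold WW
  split_ifs with hb
  · exact zj_main hp he S hC hst'
  · exact Cfsg.Agent.Lib.ZJStrong.Main.zj_main_strong hp he S _ (stronglyClosed_dPart h𝒟 S) hC hst'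

/-- Control of strong fusion in a `p`-constrained `p`-stable group. -/
theorem csfs_of_constrained (hp : p ≠ 2) {e : ℕ} (he : e = 0 ∨ e = p) {X : Type u} [Group X]
    [Finite X] {𝒟 : Set X} (h𝒟 : Adm p 𝒟) (hst : IsNormalizerPStable p X)
    (hc : IsPConstrained p X) : CSFs e p 𝒟 := by
  refine csfs_of_quotient h𝒟 (pPrimeCore p X) pPrimeCore_coprime ?_
  intro S A _ g _
  refine Good.of_mem ?_
  have hn := WW_normal (e := e) hp he (𝒟 := (QuotientGroup.mk' (pPrimeCore p X)) '' 𝒟)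
    (h𝒟.image _ (QuotientGroup.mk'_surjective _))
    (isNormalizerPStable_quotient _ pPrimeCore_coprime hst) (isPConstrained_iff.1 hc) S
  rw [NN_eq_top_iff.2 hn]
  trivial

/-- A Sylow subgroup of a subgroup, seen in the group. -/
lemma sylowIn_map {X : Type u} [Group X] [Finite X] (M : Subgroup X) (S : Sylow p M) :
    SylowIn p ((S : Subgroup M).map M.subtype) M := by
  refine ⟨Subgroup.map_subtype_le _, S.isPGroup'.map _, ?_⟩
  intro R hRM hRp hSR x hx
  have h1 : IsPGroup p (R.subgroupOf M) := hRp.comap_of_injective _ M.subtype_injective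
  have h2 : (S : Subgroup M) ≤ R.subgroupOf M := by
    intro y hy
    rw [Subgroup.mem_subgroupOf]
    exact hSR ⟨y, hy, rfl⟩
  have h3 := S.is_maximal' h1 h2
  have h4 : (⟨x, hRM hx⟩ : M) ∈ (S : Subgroup M) := by
    rw [← h3, Subgroup.mem_subgroupOf]
    exact hx
  exact ⟨_, h4, rfl⟩

/-- Control of strong fusion from the local hypotheses, for a general conjugation invariant set. -/
theorem control_of_local (hp : p ≠ 2) {e : ℕ} (he : e = 0 ∨ e = p) {G : Type u} [Group G]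
    [Finite G] {𝒟 : Set G} (h𝒟 : Adm p 𝒟) (hst : IsNormalizerPStable p G) (P : Sylow p G)
    (hc : ∀ U : Subgroup G, U ≤ (P : Subgroup G) → U ≠ ⊥ →
      IsPConstrained p ↥(Subgroup.normalizer (U : Set G)))
    (A : Set G) (hA : A ⊆ (P : Subgroup G)) (g : G)
    (hg : (fun a => g * a * g⁻¹) '' A ⊆ (P : Subgroup G)) :
    ∃ x ∈ Subgroup.normalizer ((WW e 𝒟 (P : Subgroup G) : Subgroup G) : Set G),
      ∀ a ∈ A, g * a * g⁻¹ = x * a * x⁻¹ := by
  classical
  have hW : IsConjugacyFunctor p (WW e 𝒟) := fun Q hQ =>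
    ⟨WW_le _ _ _, fun hne => WW_ne_bot he hQ hne, fun g => WW_cj h𝒟 g Q⟩
  have hloc : ∀ T : Subgroup G, T ≠ ⊥ → IsWellPlaced p (WW e 𝒟) (P : Subgroup G) T →
      ControlsStrongFusionIn p (WW e 𝒟) (Subgroup.normalizer ((T : Subgroup G) : Set G)) := by
    intro T hT hwp
    set M : Subgroup G := Subgroup.normalizer ((T : Subgroup G) : Set G) with hM
    have hstM : IsNormalizerPStable p M :=
      Cfsg.Agent.Lib.PLocal.QdSection.isNormalizerPStable_of_injective M.subtype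
        M.subtype_injective hst
    have hcsf : CSFs e p (M.subtype ⁻¹' 𝒟) :=
      csfs_of_constrained hp he (h𝒟.res M) hstM (hc T hwp.1 hT)
    obtain ⟨S⟩ : Nonempty (Sylow p M) := inferInstance
    have hS := sylowIn_map M S
    refine ⟨(S : Subgroup M).map M.subtype, hS.le, hS.isP, ?_, ?_⟩
    · rw [Subgroup.relIndex]
      have h1 : ((S : Subgroup M).map M.subtype).subgroupOf M = S :=
        Subgroup.comap_map_eq_self_of_injective M.subtype_injective _
      rw [h1]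
      exact S.not_dvd_index
    · intro B h hh hB hhB
      have hcl : Subgroup.closure B ≤ (S : Subgroup M).map M.subtype :=
        (Subgroup.closure_le _).2 hB
      have hcj : cj h (Subgroup.closure B) ≤ (S : Subgroup M).map M.subtype := by
        rw [cj, MonoidHom.map_closure, Subgroup.closure_le]
        rintro _ ⟨a, ha, rfl⟩
        exact hhB ⟨a, ha, rfl⟩
      obtain ⟨n, hn, hna⟩ := good_of_csfs (𝒟 := 𝒟) hS hcsf hcl hh hcj
      exact ⟨n, hn, fun a ha => hna a (Subgroup.subset_closure ha)⟩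
  obtain ⟨T₀, -, hT₀p, hT₀i, hT₀⟩ :=
    Cfsg.Agent.Lib.ConjFam.StrongCtl.strong_of_wellPlaced P (WW e 𝒟) hW hloc
  rw [Subgroup.relIndex_top_right] at hT₀i
  let S₀ : Sylow p G := hT₀p.toSylow hT₀i
  obtain ⟨u, hu⟩ := MulAction.exists_smul_eq G P S₀
  have hPT : cj u (P : Subgroup G) = T₀ := by
    have h1 : ((u • P : Sylow p G) : Subgroup G) = T₀ := by rw [hu]; rfl
    rw [Sylow.coe_subgroup_smul] at h1
    exact h1
  have hconj : ∀ {x : G}, x ∈ (P : Subgroup G) → u * x * u⁻¹ ∈ T₀ := by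
    intro x hx
    rw [← hPT]
    exact conj_mem_cj hx
  obtain ⟨x, ⟨-, hxN⟩, hxa⟩ := hT₀ ((fun a => u * a * u⁻¹) '' A) (u * g * u⁻¹) trivial
    (by
      rintro _ ⟨a, ha, rfl⟩
      exact hconj (hA ha))
    (by
      rintro _ ⟨_, ⟨a, ha, rfl⟩, rfl⟩
      have h1 : u * g * u⁻¹ * (u * a * u⁻¹) * (u * g * u⁻¹)⁻¹ = u * (g * a * g⁻¹) * u⁻¹ := by group
      show u * g * u⁻¹ * (u * a * u⁻¹) * (u * g * u⁻¹)⁻¹ ∈ T₀
      rw [h1]
      exact hconj (hg ⟨a, ha, rfl⟩))
  refine ⟨u⁻¹ * x * u, ?_, ?_⟩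
  · have hWW : WW e 𝒟 T₀ = cj u (WW e 𝒟 (P : Subgroup G)) := by
      rw [← hPT, WW_cj h𝒟]
    have h1 : x ∈ cj u (NN (WW e 𝒟 (P : Subgroup G))) := by
      rw [← NN_cj, ← hWW]
      exact hxN
    exact mem_cj.1 h1
  · intro a ha
    have h1 := hxa _ ⟨a, ha, rfl⟩
    have h2 : u * a * u⁻¹ = u * a * u⁻¹ := rfl
    calc g * a * g⁻¹ = u⁻¹ * (u * g * u⁻¹ * (u * a * u⁻¹) * (u * g * u⁻¹)⁻¹) * u := by group
      _ = u⁻¹ * (x * (u * a * u⁻¹) * x⁻¹) * u := by rw [h1]
      _ = (u⁻¹ * x * u) * a * (u⁻¹ * x * u)⁻¹ := by group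

/-- The theorem for a strongly closed subgroup. -/
theorem control_strong_local (hp : p ≠ 2) {e : ℕ} (he : e = 0 ∨ e = p) {G : Type u} [Group G]
    [Finite G] (P : Sylow p G) (D : Subgroup G) (hD : IsStronglyClosed D (P : Subgroup G))
    (hst : IsNormalizerPStable p G)
    (hc : ∀ U : Subgroup G, U ≤ (P : Subgroup G) → U ≠ ⊥ →
      IsPConstrained p ↥(Subgroup.normalizer (U : Set G)))
    (A : Set G) (hA : A ⊆ (P : Subgroup G)) :
    ControlsStrongFusionOf (Subgroup.normalizer (Z₀ e D : Set G)) (P : Subgroup G) A := by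
  classical
  refine ⟨hA, fun g hg => ?_⟩
  have hAdm : Adm p (conjSetOf D) := adm_conjSetOf hD
  by_cases hDb : D = ⊥
  · refine ⟨g, ?_, fun _ _ => rfl⟩
    have h0 : Z₀ e D = ⊥ := by
      rw [eq_bot_iff, ← hDb]
      exact Z₀_le_self _
    rw [h0]
    have : (⊥ : Subgroup G).Normal := inferInstance
    rw [Subgroup.normalizer_eq_top_iff.2 this]
    trivial
  · obtain ⟨x, hx, hxa⟩ := control_of_local hp he hAdm hst P hc A hA g hg
    have hWW : WW e (conjSetOf D) (P : Subgroup G) = Z₀ e D := by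
      unfold WW
      rw [dPart_conjSetOf hD, if_neg hDb]
    rw [hWW] at hx
    exact ⟨x, hx, hxa⟩

end Cfsg.Agent.Lib.ZJStrong.LocalControl
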